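import Mathlib
import Cfsg.Agent.Lib.Blocks.Vanishing
import Cfsg.Agent.Lib.Blocks.SectionPart

/-!
# The value of a character at an idempotent

It depends only on the regular values (`lin_eq_of_regular`), and at an element with nilpotent
reduction it lies in the maximal ideal (`residue_lin_of_nilpotent`).
-/

set_option autoImplicit false

namespace Cfsg.Agent.Lib.FreeBlock.Regular

open MonoidAlgebra
open scoped ComplexConjugate
open Cfsg.Agent.Lib.Blocks Cfsg.Agent.Lib.Characters.Basic Cfsg.Agent.Lib.Induced.Basic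

universe u

attribute [local instance] Ideal.Quotient.field

variable {M : Ideal Cfsg.AlgInt} [M.IsMaximal] {H : Type u} [Group H] [Finite H] {p : ℕ}

set_option quotPrecheck false in
/-- The extension of scalars to `ℂ`. -/
local notation "toC'" => MonoidAlgebra.mapRingHom H (localRing M).subtype

local notation "𝒪" => localRing M

instance : Module.Finite (localRing M) (MonoidAlgebra (localRing M) H) :=
  Module.Finite.equiv (MonoidAlgebra.coeffLinearEquiv (localRing M)).symm

instance : Module.Free (localRing M) (MonoidAlgebra (localRing M) H) :=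
  Module.Free.of_equiv (MonoidAlgebra.coeffLinearEquiv (localRing M)).symm

theorem trace_twoSided_mulRight [Fintype H] (f : MonoidAlgebra (localRing M) H) (g : H) :
    LinearMap.trace (localRing M) (MonoidAlgebra (localRing M) H)
      (twoSided (localRing M) (g, 1) * LinearMap.mulRight (localRing M) f) =
      ∑ v : H, f.coeff (v⁻¹ * g⁻¹ * v) := by
  classical
  set b : Module.Basis H (localRing M) (MonoidAlgebra (localRing M) H) :=
    Module.Basis.ofRepr (MonoidAlgebra.coeffLinearEquiv (localRing M)) with hb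
  rw [LinearMap.trace_eq_matrix_trace (localRing M) b, Matrix.trace]
  refine Finset.sum_congr rfl fun v _ => ?_
  have hbv : b v = single v 1 := by
    apply MonoidAlgebra.coeff_injective
    simp [hb]
  rw [Matrix.diag, LinearMap.toMatrix_apply, hbv, Module.End.mul_apply, LinearMap.mulRight_apply,
    twoSided_apply]
  change (single g 1 * (single v 1 * f) * single (1 : H)⁻¹ 1).coeff v = _
  rw [coeff_mul_single_apply, coeff_single_mul_apply, coeff_single_mul_apply]
  simp [mul_assoc]

/-- An idempotent has character zero against a singular element. -/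
theorem trace_singular (hM : Cfsg.IsPModular p M) [Fintype H]
    {f : MonoidAlgebra (localRing M) H} (hf : f * f = f) {g : H} (hg : p ∣ orderOf g) :
    ∑ v : H, f.coeff (v⁻¹ * g⁻¹ * v) = 0 := by
  classical
  obtain ⟨x, hx⟩ := exists_isPPart hM.1 g
  have hx1 := isPPart_ne_one hx hg
  obtain ⟨y, hxy, hcxy, ⟨k, hk⟩, hy⟩ := hx
  rw [← trace_twoSided_mulRight]
  obtain ⟨S, hS, hS'⟩ := exists_orbit_class hM.1 (Equiv.mulLeft x) (k := k)
    (Equiv.ext fun v => by simp [Equiv.pow_mulLeft, ← hk, pow_orderOf_eq_one])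
    (fun v h => hx1 (mul_eq_right.mp h))
  set E := LinearMap.mulRight 𝒪 f with hE
  set P := setProj (R := 𝒪) S with hP
  have hEE : E * E = E := LinearMap.ext fun z => by simp [hE, mul_assoc, hf]
  have hcE : ∀ a : H, Commute (twoSided 𝒪 (a, 1)) E := fun a => LinearMap.ext fun z => by
    simp [hE, twoSided_apply, mul_assoc, ← MonoidAlgebra.one_def]
  have hpow : ∀ (a : H) (n : ℕ), twoSided 𝒪 (a, 1) ^ n = twoSided 𝒪 (a ^ n, 1) := fun a n => by
    rw [← map_pow, Prod.pow_mk, one_pow]
  have hPσ : Commute P (twoSided 𝒪 (x, 1) ^ p) := by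
    rw [hpow]
    refine endExt 𝒪 fun v r => ?_
    simp only [Module.End.mul_apply, hP, twoSided_single, setProj_single, inv_one, mul_one]
    have h1 := hS v
    simp only [Equiv.pow_mulLeft, Equiv.coe_mulLeft] at h1
    by_cases hv : S v
    · rw [if_pos (h1.mpr hv), if_pos hv, twoSided_single, inv_one, mul_one]
    · rw [if_neg (fun h => hv (h1.mp h)), if_neg hv, map_zero]
  have hP1 : ∑ i ∈ Finset.range p,
      twoSided 𝒪 (x, 1) ^ i * P * twoSided 𝒪 (x⁻¹, 1) ^ i = 1 := by
    refine endExt 𝒪 fun v r => ?_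
    simp only [LinearMap.sum_apply, Module.End.mul_apply, hpow, twoSided_single, inv_one, mul_one,
      hP, setProj_single, Module.End.one_apply, apply_ite (twoSided 𝒪 _), map_zero]
    obtain ⟨i₀, ⟨hi₀, hSi₀⟩, huniq⟩ := hS' v
    simp only [Equiv.inv_mulLeft, Equiv.pow_mulLeft, Equiv.coe_mulLeft] at hSi₀ huniq
    rw [Finset.sum_eq_single i₀
      (fun i hi hne => if_neg fun h => hne (huniq i ⟨Finset.mem_range.mp hi, h⟩))
      (fun h => absurd (Finset.mem_range.mpr hi₀) h), if_pos hSi₀, inv_pow,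
      mul_inv_cancel_left]
  rw [show twoSided 𝒪 (g, 1) = twoSided 𝒪 (x, 1) * twoSided 𝒪 (y, 1) by
    rw [← map_mul, Prod.mk_mul_mk, hxy, mul_one]]
  refine trace_eq_zero_of_relTrace hM (σ := twoSided 𝒪 (x, 1)) (σ' := twoSided 𝒪 (x⁻¹, 1))
    (a := E * P * E) (k := k) (m := orderOf y) ?_ ?_ ?_ ?_ ?_ ?_ hEE (hcE x) hy ?_ ?_ (hcE y)
  · rw [hpow, ← hk, pow_orderOf_eq_one]
    exact map_one _
  · rw [← map_mul, Prod.mk_mul_mk, mul_inv_cancel, mul_one]
    exact map_one _
  · rw [← map_mul, Prod.mk_mul_mk, inv_mul_cancel, mul_one]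
    exact map_one _
  · exact ((((hcE x).pow_left p).symm).mul_left hPσ).mul_left (((hcE x).pow_left p).symm)
  · have e : ∀ i : ℕ, twoSided 𝒪 (x, 1) ^ i * (E * P * E) * twoSided 𝒪 (x⁻¹, 1) ^ i =
        E * (twoSided 𝒪 (x, 1) ^ i * P * twoSided 𝒪 (x⁻¹, 1) ^ i) * E := fun i => by
      simp only [← mul_assoc, ((hcE x).pow_left i).eq]
      simp only [mul_assoc, ← ((hcE x⁻¹).pow_left i).eq]
    rw [Finset.sum_congr rfl fun i _ => e i, ← Finset.sum_mul, ← Finset.mul_sum, hP1, mul_one,
      hEE, hEE]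
  · show E * P * E * E = E * (E * P * E)
    rw [mul_assoc (E * P), hEE, ← mul_assoc E (E * P) E, ← mul_assoc E E P, hEE]
  · rw [hpow, pow_orderOf_eq_one]
    exact map_one _
  · exact (Prod.commute_iff.mpr ⟨hcxy, Commute.one_left 1⟩).map _

/-- A class function vanishing on the regular elements is zero at an idempotent. -/
theorem lin_eq_zero_of_regular (hM : Cfsg.IsPModular p M)
    {f : MonoidAlgebra (localRing M) H} (hf : f * f = f) {ψ : H → ℂ}
    (hψ : Cfsg.IsClassFunction H ψ) (h0 : ∀ g : H, ¬ p ∣ orderOf g → ψ g = 0) :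
    lin ψ (toC' f) = 0 := by
  classical
  haveI := Fintype.ofFinite H
  haveI := Fintype.ofFinite (Cfsg.IrrCharacter H)
  have key : ∀ g : H, p ∣ orderOf g →
      ∑ θ : Cfsg.IrrCharacter H, (θ : H → ℂ) g⁻¹ * lin (θ : H → ℂ) (toC' f) = 0 := by
    intro g hg
    have h1 : ∀ h : H, ∑ θ : Cfsg.IrrCharacter H, (θ : H → ℂ) g⁻¹ * (θ : H → ℂ) h =
        ∑ v : H, if v⁻¹ * g * v = h then (1 : ℂ) else 0 := by
      intro h
      have := BrauerMap.PrincipalSection.sum_irr_mul_inv g⁻¹ h⁻¹
      rw [inv_inv] at this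
      rw [this]
      refine Finset.sum_congr rfl fun v _ => if_congr ⟨fun e => ?_, fun e => ?_⟩ rfl rfl
      · rw [← inv_inv g, e]; simp [mul_assoc]
      · rw [← e]; simp [mul_assoc]
    have h2 := congrArg (fun z : localRing M => (z : ℂ))
      (trace_singular hM hf (g := g⁻¹) (by rwa [orderOf_inv]))
    simp only [inv_inv] at h2
    push_cast at h2
    rw [← h2]
    simp only [lin_apply, Finset.mul_sum]
    rw [Finset.sum_comm]
    have h3 : ∀ h : H, ∑ θ : Cfsg.IrrCharacter H,
        (θ : H → ℂ) g⁻¹ * ((toC' f).coeff h * (θ : H → ℂ) h) =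
          ∑ v : H, if v⁻¹ * g * v = h then (toC' f).coeff h else 0 := fun h => by
      simp only [mul_left_comm _ ((toC' f).coeff h), ← Finset.mul_sum, h1]
      rw [Finset.mul_sum]
      simp
    rw [Finset.sum_congr rfl fun h _ => h3 h, Finset.sum_comm]
    refine Finset.sum_congr rfl fun v _ => ?_
    rw [Finset.sum_ite_eq, if_pos (Finset.mem_univ _)]
    simp
  conv_lhs => rw [Characters.Complete.classFunction_eq_sum hψ]
  have hlin : ∀ z : MonoidAlgebra ℂ H,
      lin (∑ θ : Cfsg.IrrCharacter H, Cfsg.classInner ψ θ • (θ : H → ℂ)) z =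
        ∑ θ : Cfsg.IrrCharacter H, Cfsg.classInner ψ θ * lin (θ : H → ℂ) z := by
    intro z
    simp only [lin_apply, BlockPart.sum_smul_apply, Finset.mul_sum]
    rw [Finset.sum_comm]
    exact Finset.sum_congr rfl fun θ _ => Finset.sum_congr rfl fun h _ => by ring
  rw [hlin]
  simp only [Cfsg.classInner, Finset.mul_sum, Finset.sum_mul]
  rw [Finset.sum_comm]
  refine Finset.sum_eq_zero fun g _ => ?_
  by_cases hg : p ∣ orderOf g
  · calc _ = (Nat.card H : ℂ)⁻¹ * ψ g *
          ∑ θ : Cfsg.IrrCharacter H, (θ : H → ℂ) g⁻¹ * lin (θ : H → ℂ) (toC' f) := by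
          rw [Finset.mul_sum]
          exact Finset.sum_congr rfl fun θ _ => by rw [apply_inv (isCharacter_irr θ)]; ring
      _ = 0 := by rw [key g hg, mul_zero]
  · exact Finset.sum_eq_zero fun θ _ => by rw [h0 g hg]; ring

/-- Characters equal on the regular elements agree at idempotents. -/
theorem lin_eq_of_regular (hM : Cfsg.IsPModular p M)
    {f : MonoidAlgebra (localRing M) H} (hf : f * f = f) (θ θ' : Cfsg.IrrCharacter H)
    (h : ∀ g : H, ¬ p ∣ orderOf g → (θ : H → ℂ) g = (θ' : H → ℂ) g) :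
    lin (θ : H → ℂ) (toC' f) = lin (θ' : H → ℂ) (toC' f) := by
  haveI := Fintype.ofFinite H
  rw [← sub_eq_zero]
  have h1 := lin_eq_zero_of_regular hM hf (ψ := (θ : H → ℂ) - (θ' : H → ℂ))
    (fun a b => by
      simp only [Pi.sub_apply, isClassFunction_irr θ a b, isClassFunction_irr θ' a b])
    (fun g hg => by rw [Pi.sub_apply, h g hg, sub_self])
  rw [← h1]
  simp only [lin_apply, Pi.sub_apply, mul_sub, Finset.sum_sub_distrib]

/-- At an element with nilpotent reduction a character lies in the maximal ideal. -/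
theorem exists_residue_lin_of_nilpotent (χ : Cfsg.IrrCharacter H)
    {x : MonoidAlgebra (localRing M) H}
    (hx : IsNilpotent (MonoidAlgebra.mapRingHom H (residue M) x)) :
    ∃ z : localRing M, (z : ℂ) = lin (χ : H → ℂ) (toC' x) ∧ residue M z = 0 := by
  classical
  haveI := Fintype.ofFinite H
  obtain ⟨N, hN⟩ := hx
  set b : Module.Basis H 𝒪 (MonoidAlgebra 𝒪 H) :=
    Module.Basis.ofRepr (MonoidAlgebra.coeffLinearEquiv 𝒪) with hb
  set L := LinearMap.mulLeft 𝒪 x with hL
  set B := LinearMap.toMatrix b b L with hB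
  have hnil : IsNilpotent (B.map (residue M)) := by
    refine ⟨N, ?_⟩
    rw [← RingHom.mapMatrix_apply, ← map_pow]
    have e : B ^ N = LinearMap.toMatrix b b (LinearMap.mulLeft 𝒪 (x ^ N)) := by
      rw [hB, LinearMap.toMatrix_pow, hL, LinearMap.pow_mulLeft]
    rw [e]
    ext v w
    have hbw : b w = single w 1 := by
      apply MonoidAlgebra.coeff_injective
      simp [hb]
    rw [RingHom.mapMatrix_apply, Matrix.map_apply, LinearMap.toMatrix_apply, hbw,
      LinearMap.mulLeft_apply]
    rw [show b.repr (x ^ N * single w 1) = (x ^ N * single w 1).coeff by rw [hb]; rfl,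
      coeff_mul_single_apply, mul_one]
    have h5 : (MonoidAlgebra.mapRingHom H (residue M) (x ^ N)).coeff (v * w⁻¹) = 0 := by
      rw [map_pow, hN, coeff_zero, Finsupp.zero_apply]
    simpa [-map_pow] using h5
  set q := L.charpoly with hq
  have hqr : q.map (residue M) = Polynomial.X ^ Fintype.card H := by
    have h1 : B.charpoly = q := L.charpoly_toMatrix b
    have h2 : (B.map (residue M)).charpoly = B.charpoly.map (residue M) :=
      Matrix.charpoly_map B (residue M)
    have h3 := Matrix.isNilpotent_charpoly_sub_pow_of_isNilpotent hnil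
    rw [← h1, ← h2]
    exact sub_eq_zero.mp (IsNilpotent.eq_zero h3)
  have hqx : Polynomial.aeval x q = 0 := by
    have h1 := L.aeval_self_charpoly
    have h2 : L = Algebra.lmul 𝒪 (MonoidAlgebra 𝒪 H) x := LinearMap.ext fun z => rfl
    rw [← hq, h2, Polynomial.aeval_algHom_apply] at h1
    simpa using LinearMap.congr_fun h1 1
  obtain ⟨d, ρ, -, hρ⟩ := χ.2
  set T := ρ.asAlgebraHom (toC' x) with hT
  have hTq : Polynomial.aeval T (q.map (localRing M).subtype) = 0 := by
    let Φ : MonoidAlgebra 𝒪 H →+* Module.End ℂ (Fin d → ℂ) :=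
      ρ.asAlgebraHom.toRingHom.comp toC'
    have h1 := congrArg Φ hqx
    rw [map_zero, Polynomial.aeval_def, Polynomial.hom_eval₂] at h1
    rw [Polynomial.aeval_def, Polynomial.eval₂_map]
    refine Eq.trans ?_ h1
    congr 1
    refine RingHom.ext fun r => ?_
    show algebraMap ℂ (Module.End ℂ (Fin d → ℂ)) (r : ℂ) =
      ρ.asAlgebraHom (toC' (algebraMap 𝒪 (MonoidAlgebra 𝒪 H) r))
    rw [show toC' (algebraMap 𝒪 (MonoidAlgebra 𝒪 H) r) = algebraMap ℂ (MonoidAlgebra ℂ H) (r : ℂ) by
      simp [MonoidAlgebra.coe_algebraMap], AlgHom.commutes]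
  have hev : ∀ l ∈ T.charpoly.roots, ∃ z : 𝒪, (z : ℂ) = l ∧ residue M z = 0 := by
    intro l hl
    have hvl : T.HasEigenvalue l :=
      (Module.End.hasEigenvalue_iff_isRoot_charpoly T l).mpr (Polynomial.isRoot_of_mem_roots hl)
    obtain ⟨v, hv⟩ := hvl.exists_hasEigenvector
    have h1 := Module.End.aeval_apply_of_hasEigenvector (p := q.map (localRing M).subtype) hv
    rw [hTq, LinearMap.zero_apply] at h1
    have hroot : (q.map (localRing M).subtype).eval l = 0 := by
      rcases smul_eq_zero.mp h1.symm with h | h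
      · exact h
      · exact absurd h hv.2
    have hmem : l ∈ 𝒪 := mem_localRing_of_monic_root ((L.charpoly_monic).map _)
      (fun i => by rw [Polynomial.coeff_map]; exact (q.coeff i).2) hroot
    refine ⟨⟨l, hmem⟩, rfl, ?_⟩
    have h2 : q.eval ⟨l, hmem⟩ = 0 := Subtype.ext (by
      have := Polynomial.eval_map (localRing M).subtype (p := q) (x := l)
      rw [hroot] at this
      rw [ZeroMemClass.coe_zero, this]
      exact (Polynomial.eval₂_at_apply (localRing M).subtype (⟨l, hmem⟩ : 𝒪) (p := q)).symm)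
    have h3 := congrArg (residue M) h2
    rw [map_zero, ← Polynomial.eval₂_at_apply, ← Polynomial.eval_map, hqr, Polynomial.eval_pow,
      Polynomial.eval_X] at h3
    exact eq_zero_of_pow_eq_zero h3
  have htr : lin (χ : H → ℂ) (toC' x) = T.charpoly.roots.sum := by
    rw [hT, ← hρ, ← trace_asAlgebraHom, LinearMap.trace_eq_matrix_trace ℂ (Pi.basisFun ℂ (Fin d)),
      Matrix.trace_eq_sum_roots_charpoly, LinearMap.charpoly_toMatrix]
  have hsum : ∀ s : Multiset ℂ, (∀ l ∈ s, ∃ z : 𝒪, (z : ℂ) = l ∧ residue M z = 0) →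
      ∃ z : 𝒪, (z : ℂ) = s.sum ∧ residue M z = 0 := by
    intro s
    induction s using Multiset.induction_on with
    | empty => exact fun _ => ⟨0, by simp, map_zero _⟩
    | cons a s ih =>
      intro h
      obtain ⟨z, hz, hz'⟩ := h a (Multiset.mem_cons_self a s)
      obtain ⟨w, hw, hw'⟩ := ih fun l hl => h l (Multiset.mem_cons_of_mem hl)
      exact ⟨z + w, by rw [Multiset.sum_cons, ← hz, ← hw]; rfl, by rw [map_add, hz', hw', add_zero]⟩
  obtain ⟨z, hz, hz'⟩ := hsum _ hev
  exact ⟨z, hz.trans htr.symm, hz'⟩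

end Cfsg.Agent.Lib.FreeBlock.Regular
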